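import Mathlib
import Cfsg.Agent.GT.FrobAutNil

/-!
Frobenius groups of automorphisms with fixed-point-free kernel: passing to quotients by solvable invariant
normal subgroups.
-/

set_option autoImplicit false

namespace Cfsg.Agent.KFH

open Subgroup Cfsg.Agent.GT Cfsg.Agent.GT.CopAct Cfsg.Agent.GT.FrobAut

universe u

variable {A : Type*} [Group A] {G : Type u} [Group G]

/-- The hypotheses. -/
structure Hz (φ : A →* MulAut G) (F H : Subgroup A) : Prop where
  fr : Fr F H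
  nil : Group.IsNilpotent F
  fix : ∀ g, (∀ f ∈ F, φ f g = g) → g = 1

namespace Hz

variable {φ : A →* MulAut G} {F H : Subgroup A} (h : Hz φ F H)
include h

theorem sub {U : Subgroup G} (hU : ActInv φ U) : Hz (subHom φ U hU) F H where
  fr := h.fr
  nil := h.nil
  fix g hg := Subtype.ext (h.fix g fun f hf => congrArg Subtype.val (hg f hf))

variable [Finite A] [Finite G]

theorem not_dvd (p : ℕ) [hp : Fact p.Prime] : ¬ p ∣ Nat.card (Cx φ (pPrimeCoreOf p F)) := by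
  intro hd
  have := h.fr.normal
  have := h.nil
  have h1 := dvd_card_Cx (subHom φ _ (actInv_Cx φ (pPrimeCoreOf p F))) (isPGroup_pCoreOf p F) hd
  have h2 : Cx (subHom φ _ (actInv_Cx φ (pPrimeCoreOf p F))) (pCoreOf p F) = ⊥ := by
    refine eq_bot_iff.2 fun x hx => Subtype.ext (h.fix _ fun f hf => ?_)
    rw [← pCoreOf_sup_pPrimeCoreOf p F] at hf
    obtain ⟨a, ha, b, hb, rfl⟩ := mem_sup_of_normal_left.1 hf
    rw [map_mul, MulAut.mul_apply, mem_Cx.1 x.2 b hb]
    exact congrArg Subtype.val (mem_Cx.1 hx a ha)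
  rw [h2, card_bot] at h1
  exact hp.out.one_lt.ne' (Nat.dvd_one.1 h1)

theorem eq_one {p : ℕ} [Fact p.Prime] {V : Subgroup G} (hV : IsPGroup p V) {v : G} (hv : v ∈ V)
    (h1 : ∀ f ∈ pPrimeCoreOf p F, φ f v = v) : v = 1 := by
  obtain ⟨k, hk⟩ := IsPGroup.iff_orderOf.1 hV ⟨v, hv⟩
  rw [← Subgroup.orderOf_coe] at hk
  rcases k with _ | k
  · exact orderOf_eq_one_iff.1 hk
  · exact absurd ((dvd_pow_self p k.succ_ne_zero).trans (hk ▸ orderOf_dvd_natCard _ (mem_Cx.2 h1)))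
      (h.not_dvd p)

theorem fr' (p : ℕ) : Fr (pPrimeCoreOf p F) H :=
  have := h.fr.normal
  h.fr.mono inferInstance (pPrimeCoreOf_le F)

omit [Finite A] [Finite G] in
theorem sol' (p : ℕ) : Group.IsSolvable (pPrimeCoreOf p F) :=
  have := h.nil
  have := isNilpotent_of_injective _ (inclusion_injective (pPrimeCoreOf_le (p := p) F))
  inferInstance

theorem quot_p {p : ℕ} [Fact p.Prime] {V : Subgroup G} [V.Normal] (hp : IsPGroup p V) (hV : ActInv φ V) :
    Hz (quotHom φ V hV) F H where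
  fr := h.fr
  nil := h.nil
  fix g hg := by
    have := h.fr.normal
    obtain ⟨g, rfl⟩ := QuotientGroup.mk_surjective g
    obtain ⟨c, hc, h1⟩ := act_exists_fixed_inv_mul_mem (φ := φ.comp (pPrimeCoreOf p F).subtype)
      (fun a => hV a) (by
        obtain ⟨k, hk⟩ := hp.exists_card_eq
        rw [hk]; exact (coprime_card_pPrimeCoreOf p F).pow_right k)
      (Or.inr (isSolvable_of_isPGroup hp)) (g := g)
      fun a => QuotientGroup.eq.1 (hg a (pPrimeCoreOf_le F a.2)).symm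
    rw [QuotientGroup.eq.2 h1] at hg ⊢
    rw [h.fix c fun f hf => ?_, QuotientGroup.mk_one]
    exact (inv_mul_eq_one.1 (h.eq_one hp (QuotientGroup.eq.1 (hg f hf).symm)
      (mem_Cx.1 (mul_mem (inv_mem hc) (actInv_Cx φ _ f c hc))))).symm

end Hz

theorem card_quot_lt [Finite G] {V : Subgroup G} (h : V ≠ ⊥) : Nat.card (G ⧸ V) < Nat.card G := by
  rw [card_eq_card_quotient_mul_card_subgroup V]
  exact lt_mul_of_one_lt_right Nat.card_pos ((one_lt_card_iff_ne_bot V).2 h)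

theorem exists_min_sol [Finite G] (φ : A →* MulAut G) {N : Subgroup G} [N.Normal] (hN : ActInv φ N)
    (h0 : N ≠ ⊥) [Group.IsSolvable N] : ∃ V ≤ N, V ≠ ⊥ ∧ V.Normal ∧ ActInv φ V ∧
      IsMulCommutative V ∧ ∃ r, r.Prime ∧ IsPGroup r V := by
  obtain ⟨V, a, b, c, d, e, f, -⟩ := exists_min φ (N := N ⊓ fittingSubgroup G)
    (hN.inf (actInv_of_characteristic _ _)) (inf_fitting_ne_bot h0) (le_fitting_iff.1 inf_le_right)
  exact ⟨V, a.trans inf_le_left, b, c, d, e, f⟩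

omit [Group G] in
theorem lift_aux [Finite A] {F H : Subgroup A} (n : ℕ) : ∀ (G : Type u) [Group G] [Finite G]
    (φ : A →* MulAut G) (N : Subgroup G) [N.Normal] [Group.IsSolvable N], Nat.card G = n → Hz φ F H →
    ActInv φ N → (∀ g, (∀ f ∈ F, g⁻¹ * φ f g ∈ N) → g ∈ N) ∧
      ∀ g, (∀ a ∈ H, g⁻¹ * φ a g ∈ N) → ∃ c, (∀ a ∈ H, φ a c = c) ∧ g⁻¹ * c ∈ N := by
  induction n using Nat.strong_induction_on with | _ n ih => ?_
  intro G _ _ φ N _ _ hn h hN
  by_cases h0 : N = ⊥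
  · subst h0
    exact ⟨fun g hg => h.fix g fun f hf => (inv_mul_eq_one.1 (hg f hf)).symm,
      fun g hg => ⟨g, fun a ha => (inv_mul_eq_one.1 (hg a ha)).symm, by simp⟩⟩
  obtain ⟨V, vN, v0, vn, vi, va, r, hr, vp⟩ := exists_min_sol φ hN h0
  have := Fact.mk hr
  have : (N.map (QuotientGroup.mk' V)).Normal := Normal.map inferInstance _ (QuotientGroup.mk'_surjective V)
  have : Group.IsSolvable (N.map (QuotientGroup.mk' V)) :=
    solvable_of_surjective ((QuotientGroup.mk' V).subgroupMap_surjective N)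
  have hm : ∀ g : G, (g : G ⧸ V) ∈ N.map (QuotientGroup.mk' V) ↔ g ∈ N := fun g => by
    have := comap_map_eq (QuotientGroup.mk' V) N
    rw [QuotientGroup.ker_mk', sup_eq_left.2 vN] at this
    exact SetLike.ext_iff.1 this g
  obtain ⟨h1, h2⟩ := ih _ (hn ▸ card_quot_lt v0) (G ⧸ V) _ (N.map (QuotientGroup.mk' V)) rfl
    (h.quot_p vp vi) (actInv_map_mk' vi hN)
  refine ⟨fun g hg => (hm g).1 (h1 g fun f hf => (hm _).2 (hg f hf)), fun g hg => ?_⟩
  obtain ⟨c, h3, h4⟩ := h2 g fun a ha => (hm _).2 (hg a ha)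
  obtain ⟨c, rfl⟩ := QuotientGroup.mk_surjective c
  obtain ⟨d, h5, h6⟩ := exists_fixed_lift h.fr φ va vi (fun m _ => h.fix m) (g := c)
    fun a ha => QuotientGroup.eq.1 (h3 a ha).symm
  exact ⟨d, h5, by simpa [mul_assoc] using mul_mem ((hm (g⁻¹ * c)).1 h4) (vN h6)⟩

namespace Hz

variable [Finite A] [Finite G] {φ : A →* MulAut G} {F H : Subgroup A} (h : Hz φ F H)
include h

theorem quot {N : Subgroup G} [N.Normal] [Group.IsSolvable N] (hN : ActInv φ N) : Hz (quotHom φ N hN) F H where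
  fr := h.fr
  nil := h.nil
  fix g hg := by
    obtain ⟨g, rfl⟩ := QuotientGroup.mk_surjective g
    exact (QuotientGroup.eq_one_iff g).2 ((lift_aux _ G φ N rfl h hN).1 g
      fun f hf => QuotientGroup.eq.1 (hg f hf).symm)

theorem exists_lift {N : Subgroup G} [N.Normal] [Group.IsSolvable N] (hN : ActInv φ N) {g : G}
    (hg : ∀ a ∈ H, g⁻¹ * φ a g ∈ N) : ∃ c, (∀ a ∈ H, φ a c = c) ∧ g⁻¹ * c ∈ N :=
  (lift_aux _ G φ N rfl h hN).2 g hg

theorem Cx_quot {N : Subgroup G} [N.Normal] [Group.IsSolvable N] (hN : ActInv φ N) :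
    Cx (quotHom φ N hN) H = (Cx φ H).map (QuotientGroup.mk' N) := by
  refine le_antisymm (fun g hg => ?_) ?_
  · obtain ⟨g, rfl⟩ := QuotientGroup.mk_surjective g
    obtain ⟨c, h1, h2⟩ := h.exists_lift hN (g := g) fun a ha => QuotientGroup.eq.1 (mem_Cx.1 hg a ha).symm
    exact ⟨c, mem_Cx.2 h1, (QuotientGroup.eq.2 h2).symm⟩
  · rintro _ ⟨c, hc, rfl⟩
    exact mem_Cx.2 fun a ha => congrArg (QuotientGroup.mk (s := N)) (mem_Cx.1 hc a ha)

theorem eq_bot [Group.IsSolvable G] (hC : Cx φ H = ⊥) : (⊤ : Subgroup G) = ⊥ := by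
  by_contra h0
  obtain ⟨V, -, v0, vn, vi, va, r, hr, vp⟩ := exists_min_sol φ (actInv_top φ) h0
  have := Fact.mk hr
  have := Fintype.ofFinite (pPrimeCoreOf r F)
  have := Fintype.ofFinite H
  let _ : CommGroup V := { (inferInstance : Group V) with mul_comm := va.is_comm.comm }
  refine v0 (eq_bot_iff.2 fun x hx => ?_)
  have h1 := prod_norm (subHom φ V vi) (h.fr' r) (fun m hm => Subtype.ext (h.eq_one vp m.2
    fun f hf => congrArg Subtype.val (hm f hf))) ⟨x, hx⟩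
  rw [Finset.prod_eq_one fun g _ => ?_] at h1
  · obtain ⟨k, hk⟩ := vp.exists_card_eq
    exact congrArg Subtype.val (eq_one_of_pow_eq_one_of_coprime
      (hk ▸ (coprime_card_pPrimeCoreOf r F).pow_right k) h1.symm)
  · rw [map_eq_one_iff _ (MulEquiv.injective _)]
    refine Subtype.ext (mem_bot.1 (hC ▸ mem_Cx.2 fun a ha => ?_))
    exact congrArg Subtype.val (norm_fixed (subHom φ V vi) H _ ha)

theorem eq_top [Group.IsSolvable G] {N : Subgroup G} [N.Normal] (hN : ActInv φ N) (hC : Cx φ H ≤ N) :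
    N = ⊤ := by
  have h1 := (h.quot hN).eq_bot (by rw [h.Cx_quot hN, Subgroup.map_eq_bot_iff, QuotientGroup.ker_mk']; exact hC)
  exact eq_top_iff.2 fun g _ => (QuotientGroup.eq_one_iff g).1 (mem_bot.1 (h1 ▸ mem_top _))

end Hz

end Cfsg.Agent.KFH
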