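import Mathlib
import Cfsg.Agent.GT.FrobAut
import Cfsg.Agent.GT.PGroupBasic

/-!
Frobenius groups of automorphisms whose kernel acts without fixed points on a nilpotent group `Q`: an element of
`Q` that centralises the fixed points of the complement in a coprime module centralises the module.
-/

set_option autoImplicit false

namespace Cfsg.Agent.KFH

open Subgroup Cfsg.Agent.GT Cfsg.Agent.GT.CopAct Cfsg.Agent.GT.FrobAut
open scoped Pointwise

variable {A : Type*} [Group A]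

/-- In an orbit of the kernel, at most one point is fixed by a non-trivial element of the complement. -/
theorem unique_fixed [Finite A] {F H : Subgroup A} (hF : Fr F H) (hsol : Group.IsSolvable F) {Ω : Type*}
    [MulAction A Ω] {ω : Ω} {a b g : A} (ha : a ∈ H) (a1 : a ≠ 1) (ea : a • ω = ω) (hg : g ∈ F) (hb : b ∈ H)
    (b1 : b ≠ 1) (eb : b • g • ω = g • ω) : g • ω = ω := by
  have := hF.normal
  obtain ⟨k, hk, hfix⟩ := glauberman_exists_fixed (A := H ⊓ (F ⊔ MulAction.stabilizer A ω)) (K := F)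
    (le_normalizer_of_normal) (hF.cop.coprime_dvd_left (card_dvd_of_le inf_le_left)) (Or.inr hsol)
    (ω := ω) (by
      rintro a ⟨-, ha⟩
      obtain ⟨f, hf, s, hs, rfl⟩ := mem_sup_of_normal_left.1 ha
      exact ⟨f, hf, by rw [mul_smul, hs]⟩)
  have hO : ∀ h ∈ H, ∀ g ∈ F, h • g • k • ω = g • k • ω → h • k • ω = k • ω := fun h hh g hg e =>
    hfix h ⟨hh, by
      rw [show h = h * (g * k)⁻¹ * h⁻¹ * (g * k) * ((g * k)⁻¹ * h * (g * k)) by group]
      refine mul_mem (mem_sup_left (mul_mem (this.conj_mem _ (inv_mem (mul_mem hg hk)) h)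
        (mul_mem hg hk))) (mem_sup_right ?_)
      rw [MulAction.mem_stabilizer_iff, mul_smul, mul_smul, mul_smul g, e, ← mul_smul g, inv_smul_smul]⟩
  have e1 : ω = k⁻¹ • k • ω := (inv_smul_smul k ω).symm
  have e2 : g • ω = (g * k⁻¹) • k • ω := by rw [mul_smul, inv_smul_smul]
  generalize k • ω = L at hO e1 e2
  have hE : ∀ h : A, h • L = L → ∀ x ∈ F ⊓ MulAction.stabilizer A L,
      h * x * h⁻¹ ∈ F ⊓ MulAction.stabilizer A L := fun h h2 x hx =>
    have h3 : h ∈ MulAction.stabilizer A L := h2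
    mem_inf.2 ⟨this.conj_mem _ hx.1 _, mul_mem (mul_mem h3 (mem_inf.1 hx).2) (inv_mem h3)⟩
  have hU : ∀ h ∈ H, h ≠ 1 → ∀ g ∈ F, h • g • L = g • L → g • L = L := fun h hh h0 g hg e => by
    have h2 := hO h hh g hg e
    obtain ⟨y, hy⟩ := (hF.bij hh h0 inf_le_left (hE h h2)).2
      ⟨g⁻¹ * (h * g * h⁻¹), mem_inf.2 ⟨mul_mem (inv_mem hg) (this.conj_mem _ hg _), by
        rw [MulAction.mem_stabilizer_iff, mul_smul, mul_smul, mul_smul, inv_smul_eq_iff.2 h2.symm, e,
          inv_smul_smul]⟩⟩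
    have h3 := (hF.bij hh h0 le_rfl fun x hx => this.conj_mem _ hx _).1 (a₁ := ⟨y, y.2.1⟩)
      (a₂ := ⟨g⁻¹, inv_mem hg⟩) (Subtype.ext (by simpa using congrArg Subtype.val hy))
    have h4 : g⁻¹ ∈ MulAction.stabilizer A L := (show y.1 = g⁻¹ from congrArg Subtype.val h3) ▸ y.2.2
    exact inv_mem_iff.1 h4
  have h1 := hU a ha a1 _ (inv_mem hk) (e1 ▸ ea)
  have h2 := hU b hb b1 _ (mul_mem hg (inv_mem hk)) (e2 ▸ eb)
  rw [e2, h2, e1, h1]

variable {V Q : Type*} [CommGroup V] [Group Q] (ψ : Q →* MulAut V)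

/-- The norm map of a subgroup. -/
def nm (K : Subgroup Q) [Fintype K] : V →* V :=
  MonoidHom.mk' (fun v => ∏ x : K, ψ x v) fun a b => by simp only [map_mul, Finset.prod_mul_distrib]

section nm

variable {ψ} {K : Subgroup Q} [Fintype K]

theorem nm_apply (v : V) : nm ψ K v = ∏ x : K, ψ x v := rfl

theorem nm_fixed (v : V) {g : Q} (hg : g ∈ K) : ψ g (nm ψ K v) = nm ψ K v := norm_fixed ψ K v hg

theorem nm_comm (hK : K.Normal) (y : Q) (v : V) : nm ψ K (ψ y v) = ψ y (nm ψ K v) := by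
  rw [nm_apply, nm_apply, map_prod, ← Equiv.prod_comp (MulAut.conjNormal (H := K) y).toEquiv]
  refine Finset.prod_congr rfl fun x _ => ?_
  change ψ (y * x * y⁻¹) (ψ y v) = _
  rw [← MulAut.mul_apply, ← map_mul, inv_mul_cancel_right, map_mul, MulAut.mul_apply]

theorem nm_of_fixed {v : V} (h : ∀ x ∈ K, ψ x v = v) : nm ψ K v = v ^ Nat.card K := by
  rw [nm_apply, Finset.prod_congr rfl fun (x : K) _ => h x x.2]
  simp

theorem nm_mem {W : Subgroup V} (hW : ActInv ψ W) {v : V} (hv : v ∈ W) : nm ψ K v ∈ W :=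
  prod_mem fun x _ => hW x v hv

end nm

/-- `K` is the kernel of the action on every non-trivial invariant subgroup of `W`. -/
structure Pure (K : Subgroup Q) (W : Subgroup V) : Prop where
  normal : K.Normal
  ne : W ≠ ⊥
  inv : ActInv ψ W
  fix : ∀ x ∈ K, ∀ w ∈ W, ψ x w = w
  max : ∀ M : Subgroup Q, M.Normal → ¬ M ≤ K → ∀ w ∈ W, (∀ x ∈ M, ψ x w = w) → w = 1

variable {ψ}

theorem fix_normalClosure {U : Subgroup V} (hU : ActInv ψ U) {c : Q} (h : ∀ u ∈ U, ψ c u = u) :
    ∀ x ∈ normalClosure ({c} : Set Q), ∀ u ∈ U, ψ x u = u := fun x hx u hu => by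
  have h1 : normalClosure ({c} : Set Q) ≤ (subHom ψ U hU).ker :=
    normalClosure_le_normal (Set.singleton_subset_iff.2 (MulEquiv.ext fun u => Subtype.ext (h u u.2)))
  exact congrArg Subtype.val (DFunLike.congr_fun (h1 hx) (⟨u, hu⟩ : U))

theorem Pure.mem {K : Subgroup Q} {W : Subgroup V} (h : Pure ψ K W) {c : Q} (hc : ∀ w ∈ W, ψ c w = w) :
    c ∈ K := by
  by_contra hn
  exact h.ne (eq_bot_iff.2 fun w hw => h.max (normalClosure {c}) inferInstance
    (fun e => hn (e (subset_normalClosure rfl))) w hw fun x hx => fix_normalClosure h.inv hc x hx w hw)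

theorem exists_pure [Finite Q] (hQV : (Nat.card Q).Coprime (Nat.card V)) {c : Q} {v : V}
    (hv : ψ c v ≠ v) : ∃ K W, Pure ψ K W ∧ c ∉ K := by
  have := Fintype.ofFinite (normalClosure ({c} : Set Q))
  obtain ⟨K, -, ⟨hn, u, hu, hcu⟩, hm⟩ := Finite.exists_le_maximal
    (p := fun K : Subgroup Q => K.Normal ∧ ∃ v, (∀ x ∈ K, ψ x v = v) ∧ ψ c v ≠ v) (a := ⊥)
    ⟨inferInstance, v, fun x hx => by rw [mem_bot.1 hx, map_one, MulAut.one_apply], hv⟩
  have hinv : ∀ L : Subgroup Q, L.Normal → ActInv ψ (actFixed (ψ.comp L.subtype)) := fun L hL a g hg f => by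
    change ψ f (ψ a g) = ψ a g
    rw [← MulAut.mul_apply, ← map_mul, show f * a = a * (a⁻¹ * f * a⁻¹⁻¹) by group, map_mul,
      MulAut.mul_apply]
    exact congrArg _ (hg ⟨_, hL.conj_mem f f.2 _⟩)
  have hcN : c ∈ normalClosure ({c} : Set Q) := subset_normalClosure rfl
  refine ⟨K, actFixed (ψ.comp K.subtype) ⊓ (nm ψ (normalClosure {c})).ker, ⟨hn, ?_, ?_, ?_, ?_⟩,
    fun h => hcu (hu c h)⟩
  · have h1 : u ∈ actFixed (ψ.comp K.subtype) := fun x => hu x x.2
    refine ne_bot_iff_exists_ne_one.2 ⟨⟨u⁻¹ * ψ c u, mem_inf.2 ⟨mul_mem (inv_mem h1) (hinv K hn c u h1), ?_⟩⟩,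
      fun e => hcu (inv_mul_eq_one.1 (congrArg Subtype.val e)).symm⟩
    change nm ψ _ _ = 1
    rw [map_mul, map_inv, nm_comm inferInstance, nm_fixed _ hcN, inv_mul_cancel]
  · refine (hinv K hn).inf fun a w hw => ?_
    change nm ψ _ _ = 1
    rw [nm_comm inferInstance, show nm ψ _ w = 1 from hw, map_one]
  · exact fun x hx w hw => hw.1 ⟨x, hx⟩
  · intro M hM hMK w hw hw'
    have h1 : ∀ y ∈ actFixed (ψ.comp (K ⊔ M).subtype), ψ c y = y := fun y hy => by
      by_contra h2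
      exact hMK (le_sup_right.trans (hm ⟨inferInstance, y, fun x hx => hy ⟨x, hx⟩, h2⟩ le_sup_left))
    have h2 : w ∈ actFixed (ψ.comp (K ⊔ M).subtype) := by
      rintro ⟨x, hx⟩
      obtain ⟨a, ha, b, hb, rfl⟩ := mem_sup_of_normal_left.1 hx
      change ψ (a * b) w = w
      rw [map_mul, MulAut.mul_apply, hw' b hb]
      exact hw.1 ⟨a, ha⟩
    have h3 := nm_of_fixed fun x hx => fix_normalClosure (hinv _ inferInstance) h1 x hx w h2
    exact eq_one_of_pow_eq_one_of_coprime (hQV.coprime_dvd_left (card_subgroup_dvd_card _))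
      (h3.symm.trans hw.2)

theorem Pure.isCyclic [Finite Q] [Finite V] (hQV : (Nat.card Q).Coprime (Nat.card V)) {K : Subgroup Q}
    [K.Normal] {W : Subgroup V} (h : Pure ψ K W) : IsCyclic (center (Q ⧸ K)) := by
  by_contra hnc
  let ρ : Q ⧸ K →* MulAut W := QuotientGroup.lift K (subHom ψ W h.inv) fun x hx =>
    MulEquiv.ext fun w => Subtype.ext (h.fix x hx w w.2)
  have h1 := act_le_of_fixed_elt (φ := ρ.comp (center (Q ⧸ K)).subtype) inferInstance hnc (U := ⊤) (H := ⊥)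
    (actInv_top _) (by
      rw [card_top]
      exact (hQV.coprime_dvd_left ((card_subgroup_dvd_card _).trans (card_quotient_dvd_card K))).coprime_dvd_right
        (card_subgroup_dvd_card W)) fun a a1 u _ hu => by
      have : (zpowers (a : Q ⧸ K)).Normal := ⟨fun n hn g => by
        rwa [mem_center_iff.1 (zpowers_le.2 a.2 hn) g, mul_inv_cancel_right]⟩
      refine Subtype.ext (h.max ((zpowers (a : Q ⧸ K)).comap (QuotientGroup.mk' K)) inferInstance
        (fun e => a1 (Subtype.ext ?_)) u u.2 fun x hx => ?_)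
      · obtain ⟨y, hy⟩ := QuotientGroup.mk_surjective (a : Q ⧸ K)
        have h2 : (y : Q ⧸ K) ∈ zpowers (a : Q ⧸ K) := hy ▸ mem_zpowers _
        exact hy.symm.trans ((QuotientGroup.eq_one_iff y).2 (e h2))
      · have h2 : zpowers (a : Q ⧸ K) ≤ (MulAction.stabilizer (MulAut W) u).comap ρ := zpowers_le.2 hu
        exact congrArg Subtype.val (h2 hx)
  exact h.ne (eq_bot_iff.2 fun w hw => congrArg Subtype.val (mem_bot.1 (h1 (mem_top (⟨w, hw⟩ : W)))))

variable {φ : A →* MulAut V} {χ : A →* MulAut Q}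
  (hc : ∀ a x v, φ a (ψ x v) = ψ (χ a x) (φ a v))
include hc

theorem Pure.smul {K : Subgroup Q} {W : Subgroup V} (h : Pure ψ K W) (a : A) :
    Pure ψ (χ a • K) (φ a • W) where
  normal := h.normal.map _ (χ a).surjective
  ne e := h.ne ((map_eq_bot_iff_of_injective _ (φ a).injective).1 e)
  inv := by
    rintro x _ ⟨w, hw, rfl⟩
    refine ⟨_, h.inv ((χ a).symm x) w hw, (hc a _ w).trans ?_⟩
    rw [MulEquiv.apply_symm_apply]
    rfl
  fix := by
    rintro _ ⟨x, hx, rfl⟩ _ ⟨w, hw, rfl⟩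
    exact (hc a x w).symm.trans (congrArg _ (h.fix x hx w hw))
  max := by
    rintro M hM hMK _ ⟨w, hw, rfl⟩ hw'
    rw [h.max (M.comap (χ a).toMonoidHom) (hM.comap _) (fun e => hMK fun x hx => ⟨(χ a).symm x,
      e (by simpa using hx), (χ a).apply_symm_apply x⟩) w hw fun x hx => (φ a).injective
        ((hc a x w).trans (hw' _ hx))]
    exact map_one _

theorem Pure.mem_of_free [Finite A] [Finite Q] (hQV : (Nat.card Q).Coprime (Nat.card V)) {H : Subgroup A}
    {K : Subgroup Q} {W : Subgroup V} (h : Pure ψ K W) (hfree : ∀ a ∈ H, χ a • K = K → a = 1) {c : Q}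
    (h1 : ∀ v, (∀ a ∈ H, φ a v = v) → ψ c v = v) : c ∈ K := by
  classical
  have := Fintype.ofFinite H
  have := Fintype.ofFinite K
  refine h.mem fun w hw => ?_
  have h2 : nm ψ K (∏ a : H, φ a w) = w ^ Nat.card K := by
    rw [map_prod, ← Finset.mul_prod_erase _ _ (Finset.mem_univ (1 : H)), OneMemClass.coe_one, map_one,
      MulAut.one_apply, nm_of_fixed fun x hx => h.fix x hx w hw, Finset.prod_eq_one, mul_one]
    intro a ha
    have h3 := h.smul hc a
    refine h3.max K h.normal (fun e => Finset.ne_of_mem_erase ha (Subtype.ext (hfree a a.2 ?_))) _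
      (nm_mem h3.inv (smul_mem_pointwise_smul _ _ _ hw)) fun x hx => nm_fixed _ hx
    exact (eq_of_le_of_card_ge e (card_map_of_injective (χ a).injective).le).symm
  have h3 := nm_comm (ψ := ψ) h.normal c (∏ a : H, φ a w)
  rw [h1 _ fun g hg => norm_fixed φ H w hg, h2, map_pow] at h3
  refine (inv_mul_eq_one.1 (eq_one_of_pow_eq_one_of_coprime
    (hQV.coprime_dvd_left (card_subgroup_dvd_card K)) ?_)).symm
  rw [mul_pow, ← h3, inv_pow, inv_mul_cancel]

open scoped IsMulCommutative in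
/-- The key proposition. -/
theorem fix_of_fix [Finite A] [Finite V] [Finite Q] {F H : Subgroup A} (hF : Fr F H)
    (hsol : Group.IsSolvable F) (hnil : Group.IsNilpotent Q) (hQV : (Nat.card Q).Coprime (Nat.card V))
    (hFQ : (Nat.card F).Coprime (Nat.card Q)) (hQ : ∀ x, (∀ f ∈ F, χ f x = x) → x = 1) {c : Q}
    (h1 : ∀ v, (∀ h ∈ H, φ h v = v) → ψ c v = v) (v : V) : ψ c v = v := by
  classical
  have := Fintype.ofFinite F
  have := hF.normal
  by_contra hv
  obtain ⟨K, W, hP, hcK⟩ := exists_pure hQV hv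
  have := hP.normal
  let _ : MulAction A (Subgroup Q) := MulAction.compHom _ χ
  have hs : ∀ (a : A) (L : Subgroup Q), a • L = χ a • L := fun _ _ => rfl
  obtain ⟨h, hh, h2, h0⟩ : ∃ h ∈ H, h • K = K ∧ h ≠ 1 := by
    by_contra h3
    push Not at h3
    exact hcK (hP.mem_of_free hc hQV h3 h1)
  let D : Subgroup Q :=
    { carrier := {x | ∀ f ∈ F, f • K ≠ K → χ f x ∈ K}
      one_mem' := fun f _ _ => by rw [map_one]; exact one_mem _
      mul_mem' := fun ha hb f hf e => by rw [map_mul]; exact mul_mem (ha f hf e) (hb f hf e)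
      inv_mem' := fun ha f hf e => by rw [map_inv]; exact inv_mem (ha f hf e) }
  have : D.Normal := ⟨fun x hx g f hf e => by
    rw [map_mul, map_mul, map_inv]; exact hP.normal.conj_mem _ (hx f hf e) _⟩
  have hcD : c ∈ D := fun g hg hne => by
    have h3 := (hP.smul hc g⁻¹).mem_of_free hc hQV (fun b hb e => by_contra fun b1 =>
      hne (inv_smul_eq_iff.1 (unique_fixed hF hsol hh h0 h2 (inv_mem hg) hb b1 e)).symm) h1
    rwa [map_inv, mem_inv_pointwise_smul_iff] at h3
  have : (D.map (QuotientGroup.mk' K)).Normal := Normal.map inferInstance _ (QuotientGroup.mk'_surjective K)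
  obtain ⟨⟨_, ⟨z, hzD, rfl⟩, hzc⟩, hz1⟩ := ne_bot_iff_exists_ne_one.1 (PG.inf_center_ne_bot
    (D.map (QuotientGroup.mk' K)) fun e => hcK ((QuotientGroup.ker_mk' K).le ((map_eq_bot_iff D).1 e hcD)))
  have hcyc := hP.isCyclic hQV
  have hinv : ActInv (χ.comp (MulAction.stabilizer A K).subtype) K := fun a x hx =>
    (show (a : A) • K = K from a.2).le (smul_mem_pointwise_smul _ _ _ hx)
  have hE : ∀ x ∈ F ⊓ MulAction.stabilizer A K, h * x * h⁻¹ ∈ F ⊓ MulAction.stabilizer A K := fun x hx =>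
    have h3 : h ∈ MulAction.stabilizer A K := h2
    mem_inf.2 ⟨hF.normal.conj_mem _ hx.1 _, mul_mem (mul_mem h3 (mem_inf.1 hx).2) (inv_mem h3)⟩
  have h4 : ∀ g ∈ F, g • K = K → ((χ g z : Q) : Q ⧸ K) = z := fun g hg e => by
    obtain ⟨x, hx⟩ := (hF.bij hh h0 inf_le_left hE).2 ⟨g, hg, e⟩
    have h5 : (⟨g, e⟩ : MulAction.stabilizer A K) = ⟨x, x.2.2⟩ * (⟨h, h2⟩ * ⟨x, x.2.2⟩⁻¹ * ⟨h, h2⟩⁻¹) :=
      Subtype.ext (congrArg Subtype.val hx).symm
    have h6 : subHom (quotHom _ K hinv) _ (actInv_of_characteristic _ (center _)) ⟨g, e⟩ = 1 := by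
      rw [h5]
      refine (IsCyclic.mulAutMulEquiv (center (Q ⧸ K))).injective ?_
      simp
    exact congrArg Subtype.val (DFunLike.congr_fun h6 (⟨z, hzc⟩ : center (Q ⧸ K)))
  let Y : Subgroup Q :=
    { carrier := {y | ∀ f ∈ F, ((χ f y : Q) : Q ⧸ K) ∈ center (Q ⧸ K)}
      one_mem' := fun f _ => by rw [map_one]; exact one_mem _
      mul_mem' := fun ha hb f hf => by rw [map_mul]; exact mul_mem (ha f hf) (hb f hf)
      inv_mem' := fun ha f hf => by rw [map_inv]; exact inv_mem (ha f hf) }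
  have hY : ActInv (χ.comp F.subtype) Y := fun a y hy f hf => by
    have := hy (f * a) (mul_mem hf a.2)
    rwa [map_mul] at this
  let τ : Y →* center (Q ⧸ K) := MonoidHom.mk' (fun y => ∏ f : F, ⟨((χ f y : Q) : Q ⧸ K), y.2 f f.2⟩)
    fun a b => by
      rw [← Finset.prod_mul_distrib]
      exact Finset.prod_congr rfl fun f _ => Subtype.ext (by simp)
  have hτ : ∀ (a : F) (y : Y), τ (subHom _ Y hY a y) = τ y := fun a y => by
    change ∏ f : F, _ = ∏ f : F, _
    rw [← Equiv.prod_comp (Equiv.mulRight a) fun f : F =>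
      (⟨((χ f y : Q) : Q ⧸ K), y.2 f f.2⟩ : center (Q ⧸ K))]
    exact Finset.prod_congr rfl fun f _ => Subtype.ext (by simp [coe_subHom_apply])
  have hzY : z ∈ Y := fun f hf => by
    by_cases e : f • K = K
    · rw [h4 f hf e]; exact hzc
    · rw [(QuotientGroup.eq_one_iff _).2 (hzD f hf e)]; exact one_mem _
  obtain ⟨y, hy, h5⟩ := act_exists_fixed_inv_mul_mem (φ := subHom _ Y hY) (N := τ.ker)
    (fun a u hu => (hτ a u).trans hu)
    (hFQ.coprime_dvd_right ((card_subgroup_dvd_card _).trans (card_subgroup_dvd_card Y))) (Or.inl hsol)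
    (g := ⟨z, hzY⟩) fun a => by rw [MonoidHom.mem_ker, map_mul, map_inv, hτ, inv_mul_cancel]
  rw [show y = 1 from Subtype.ext (hQ y fun f hf => congrArg Subtype.val (hy ⟨f, hf⟩)), mul_one,
    inv_mem_iff, MonoidHom.mem_ker] at h5
  change ∏ f : F, _ = 1 at h5
  rw [Finset.prod_congr rfl (g := fun f : F =>
      if f ∈ (MulAction.stabilizer A K).subgroupOf F then (⟨z, hzc⟩ : center (Q ⧸ K)) else 1) (fun f _ => by
      split_ifs with a
      exacts [Subtype.ext (h4 f f.2 a), Subtype.ext ((QuotientGroup.eq_one_iff _).2 (hzD f f.2 a))]),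
    Finset.prod_ite, Finset.prod_const_one, mul_one, Finset.prod_const, ← Fintype.card_subtype,
    ← Nat.card_eq_fintype_card] at h5
  have h6 := eq_one_of_pow_eq_one_of_coprime
    ((hFQ.coprime_dvd_left (card_subgroup_dvd_card _)).coprime_dvd_right
      ((card_subgroup_dvd_card _).trans (card_quotient_dvd_card K))) h5
  exact hz1 (Subtype.ext (congrArg Subtype.val h6 :))

end Cfsg.Agent.KFH
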