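import Mathlib
import Cfsg.Agent.KFH.Key
import Cfsg.Agent.KFH.Base
import Cfsg.Agent.GT.PLength
import Cfsg.Agent.GT.Conj
import Cfsg.Agent.FG.H93NilRes

/-!
Frobenius groups of automorphisms with fixed-point-free kernel: normal subgroups of the fixed points of the
complement lie in the corresponding radicals.
-/

set_option autoImplicit false

namespace Cfsg.Agent.KFH

open Subgroup Cfsg.Agent.GT Cfsg.Agent.GT.CopAct Cfsg.Agent.GT.FrobAut Cfsg.Agent.FG.H93

universe u

variable {A : Type*} [Group A] [Finite A] {F H : Subgroup A}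

theorem le_pCore_aux {q : ℕ} [hq : Fact q.Prime] (n : ℕ) : ∀ (G : Type u) [Group G] [Finite G]
    [Group.IsSolvable G] (φ : A →* MulAut G) (X : Subgroup G), Nat.card G = n → Hz φ F H → X ≤ Cx φ H →
    Cx φ H ≤ normalizer (X : Set G) → IsPGroup q X → X ≤ pCore q G := by
  induction n using Nat.strong_induction_on with | _ n ih => ?_
  intro G _ _ _ φ X hn h h1 h2 h3
  by_cases h0 : (⊤ : Subgroup G) = ⊥
  · exact le_top.trans (h0 ▸ bot_le)
  obtain ⟨V, -, v0, vn, vi, va, r, hr, vp⟩ := exists_min_sol φ (actInv_top φ) h0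
  have := Fact.mk hr
  have h' := h.quot_p vp vi
  have h4 := map_le_iff_le_comap.1 (ih _ (hn ▸ card_quot_lt v0) (G ⧸ V) _ (X.map (QuotientGroup.mk' V)) rfl h'
    (h.Cx_quot vi ▸ map_mono h1) (h.Cx_quot vi ▸ map_le_normalizer_map h2 _) (h3.map _))
  by_cases e : r = q
  · subst e
    rwa [comap_pCore_quotient vp] at h4
  let _ : CommGroup V := { (inferInstance : Group V) with mul_comm := va.is_comm.comm }
  let ψ : G ⧸ V →* MulAut V := QuotientGroup.lift V MulAut.conjNormal fun x hx =>
    MulEquiv.ext fun y => Subtype.ext (by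
      change x * y * x⁻¹ = y
      rw [setLike_mul_comm hx y.2, mul_inv_cancel_right])
  have qp := isPGroup_pCore (G := G ⧸ V) q
  have h5 : X ≤ centralizer (V : Set G) := fun x hx v hv => by
    have h6 := fix_of_fix (ψ := ψ.comp (pCore q (G ⧸ V)).subtype) (φ := subHom φ V vi)
      (χ := subHom (quotHom φ V vi) _ (actInv_of_characteristic _ _))
      (fun a y v => by
        obtain ⟨y, hy⟩ := y
        obtain ⟨y, rfl⟩ := QuotientGroup.mk_surjective y
        refine Subtype.ext ?_
        change φ a (y * v * y⁻¹) = φ a y * φ a v * (φ a y)⁻¹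
        rw [map_mul, map_mul, map_inv])
      (h.fr' q) (h.sol' q) qp.isNilpotent (IsPGroup.coprime_card_of_ne q r (Ne.symm e) _ _ qp vp) (by
        obtain ⟨k, hk⟩ := qp.exists_card_eq
        rw [hk]; exact (coprime_card_pPrimeCoreOf q F).pow_right k)
      (fun y hy => Subtype.ext (h'.eq_one qp y.2 fun f hf => congrArg Subtype.val (hy f hf)))
      (c := ⟨(x : G ⧸ V), h4 hx⟩) (fun w hw => by
        have h7 : (w : G) ∈ normalizer (X : Set G) := h2 (mem_Cx.2 fun a ha => congrArg Subtype.val (hw a ha))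
        have h8 : x * w * x⁻¹ * (w : G)⁻¹ ∈ X ⊓ V := ⟨by
          simpa [mul_assoc] using mul_mem hx ((mem_normalizer_iff.1 h7 _).1 (inv_mem hx)),
          V.mul_mem (vn.conj_mem _ w.2 x) (V.inv_mem w.2)⟩
        rw [disjoint_iff.1 (IsPGroup.disjoint_of_ne q r (Ne.symm e) _ _ h3 vp)] at h8
        exact Subtype.ext (mul_inv_eq_one.1 h8)) ⟨v, hv⟩
    exact (mul_inv_eq_iff_eq_mul.1 (congrArg Subtype.val h6)).symm
  let T := (pCore q (G ⧸ V)).comap (QuotientGroup.mk' V) ⊓ centralizer (V : Set G)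
  have : Group.IsNilpotent T := by
    have := qp.isNilpotent
    refine Subgroup.isNilpotent_of_ker_le_center (((QuotientGroup.mk' V).comp T.subtype).codRestrict
      (pCore q (G ⧸ V)) fun x => x.2.1) (fun x hx => mem_center_iff.2 fun y => Subtype.ext ?_)
    exact (y.2.2 x ((QuotientGroup.eq_one_iff _).1 (congrArg Subtype.val hx))).symm
  exact (le_pCoreOf_of_isNilpotent (H := T) (le_inf h4 h5) h3).trans (pCoreOf_le_pCore T)

namespace Hz

variable {G : Type u} [Group G] [Finite G] [Group.IsSolvable G] {φ : A →* MulAut G} (h : Hz φ F H)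
include h

theorem le_pCore {q : ℕ} (hq : q.Prime) {X : Subgroup G} (h1 : X ≤ Cx φ H)
    (h2 : Cx φ H ≤ normalizer (X : Set G)) (h3 : IsPGroup q X) : X ≤ pCore q G :=
  have := Fact.mk hq
  le_pCore_aux _ G φ X rfl h h1 h2 h3

theorem le_fitting {X : Subgroup G} (h1 : X ≤ Cx φ H) (h2 : Cx φ H ≤ normalizer (X : Set G))
    (h3 : Group.IsNilpotent X) : X ≤ fittingSubgroup G := by
  rw [← iSup_pCoreOf_eq X]
  exact iSup_le fun q => (h.le_pCore q.2 ((pCoreOf_le X).trans h1)
    (h2.trans (normalizer_le_normalizer_pCoreOf X)) (isPGroup_pCoreOf _ X)).trans (pCore_le_fitting q.2)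

theorem eq_bot_of_piCore {π : Set ℕ} (h0 : piCore π G = ⊥) {X : Subgroup G} (h1 : X ≤ Cx φ H)
    (h2 : Cx φ H ≤ normalizer (X : Set G)) (h3 : IsPiNum π (Nat.card X)) : X = ⊥ := by
  by_contra e
  refine fittingOf_ne_bot e (eq_bot_iff.2 (h0 ▸ le_piCore_of_le_fitting
    (h3.of_dvd (card_dvd_of_le (fittingOf_le X))) ?_))
  exact h.le_fitting ((fittingOf_le X).trans h1) (h2.trans (normalizer_le_normalizer_fittingOf X))
    inferInstance

theorem le_piCore {π : Set ℕ} {X : Subgroup G} (h1 : X ≤ Cx φ H)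
    (h2 : Cx φ H ≤ normalizer (X : Set G)) (h3 : IsPiNum π (Nat.card X)) : X ≤ piCore π G := by
  have vi := actInv_of_characteristic φ (piCore π G)
  have h4 := (h.quot vi).eq_bot_of_piCore piCore_quotient_piCore (X := X.map (QuotientGroup.mk' _))
    (h.Cx_quot vi ▸ map_mono h1) (h.Cx_quot vi ▸ map_le_normalizer_map h2 _)
    (h3.of_dvd (card_map_dvd _ _))
  rwa [Subgroup.map_eq_bot_iff, QuotientGroup.ker_mk'] at h4

theorem le_piCoreMod {π : Set ℕ} {U X : Subgroup G} [U.Normal] (vi : ActInv φ U) (h1 : X ≤ Cx φ H)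
    (h2 : Cx φ H ≤ normalizer (X : Set G)) (h3 : IsPiNum π (U.relIndex X)) : X ≤ piCoreMod π U := by
  refine map_le_iff_le_comap.1 ((h.quot vi).le_piCore (h.Cx_quot vi ▸ map_mono h1)
    (h.Cx_quot vi ▸ map_le_normalizer_map h2 _) ?_)
  rwa [← relIndex_ker, QuotientGroup.ker_mk']

theorem map_upperPSeries (p n : ℕ) :
    (upperPSeries p (Cx φ H) n).1.map (Cx φ H).subtype ≤ (upperPSeries p G n).1 := by
  induction n with
  | zero => rw [upperPSeries_zero, Subgroup.map_bot]; exact bot_le
  | succ n ih =>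
    have := upperPSeries_characteristic (G := G) (p := p) n
    have := upperPSeries_characteristic (G := Cx φ H) (p := p) n
    rw [upperPSeries_succ, upperPSeries_succ]
    refine h.le_piCoreMod (actInv_of_characteristic _ _) (map_subtype_le _) (le_normalizer_map_subtype _ _) ?_
    refine (isPiNum_relIndex_piCoreMod (pStep p n) (upperPSeries p (Cx φ H) n).1).of_dvd ?_
    rw [← relIndex_map_map_of_injective _ _ (Cx φ H).subtype_injective]
    exact relIndex_dvd_of_le_left _ ih

theorem pLengthLE (p k : ℕ) : PLengthLE p k G ↔ PLengthLE p k (Cx φ H) := by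
  refine ⟨fun h1 => h1.subgroup _, fun h1 => ?_⟩
  rw [pLengthLE_iff] at h1 ⊢
  have := upperPSeries_characteristic (G := G) (p := p) (2 * k + 1)
  have h2 := h.map_upperPSeries p (2 * k + 1)
  rw [h1, ← MonoidHom.range_eq_map, range_subtype] at h2
  exact h.eq_top (actInv_of_characteristic _ _) h2

theorem fitting_eq : fittingSubgroup (Cx φ H) = (fittingSubgroup G).subgroupOf (Cx φ H) :=
  le_antisymm (map_le_iff_le_comap.1 (h.le_fitting (X := fittingOf _) (fittingOf_le _)
    (le_normalizer_fittingOf _) inferInstance))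
    (fitting_subgroupOf_le _)

theorem piCore_eq (π : Set ℕ) : piCore π (Cx φ H) = (piCore π G).subgroupOf (Cx φ H) :=
  le_antisymm (map_le_iff_le_comap.1 (h.le_piCore (piCoreOf_le _) (le_normalizer_piCoreOf _)
    (isPiNum_piCoreOf π _))) (piCore_subgroupOf_le _)

end Hz

theorem iterRes_aux (n : ℕ) : ∀ (G : Type u) [Group G] [Finite G] [Group.IsSolvable G] (φ : A →* MulAut G),
    Hz φ F H → iterRes n (Cx φ H) = ⊥ → iterRes n (⊤ : Subgroup G) = ⊥ := by
  induction n with
  | zero => exact fun G _ _ _ φ h h1 => h.eq_bot h1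
  | succ n ih =>
    intro G _ _ _ φ h h1
    rw [iterRes_succ, nilRes_eq_bot_iff] at h1 ⊢
    have vi := actInv_of_characteristic φ (fittingSubgroup G)
    have h2 := ih _ _ (h.quot vi) (by
      rw [h.Cx_quot vi, ← map_iterRes, Subgroup.map_eq_bot_iff, QuotientGroup.ker_mk']
      exact h.le_fitting (iterRes_le n _) (le_normalizer_iterRes n _) h1)
    rw [← map_top_of_surjective _ (QuotientGroup.mk'_surjective (fittingSubgroup G)), ← map_iterRes,
      Subgroup.map_eq_bot_iff, QuotientGroup.ker_mk'] at h2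
    exact isNilpotent_of_injective _ (inclusion_injective h2)

theorem Hz.iterRes_iff {G : Type u} [Group G] [Finite G] [Group.IsSolvable G] {φ : A →* MulAut G}
    (h : Hz φ F H) (n : ℕ) : iterRes n (⊤ : Subgroup G) = ⊥ ↔ iterRes n (⊤ : Subgroup (Cx φ H)) = ⊥ := by
  rw [← Subgroup.map_eq_bot_iff_of_injective _ (Cx φ H).subtype_injective, map_iterRes, ← MonoidHom.range_eq_map,
    range_subtype]
  exact ⟨fun h1 => eq_bot_iff.2 (h1 ▸ iterRes_mono n le_top), iterRes_aux n G φ h⟩

end Cfsg.Agent.KFH
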